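import Groth.Agent.L27.Colim.Acyclic
import Mathlib.CategoryTheory.Sites.Limits
import Mathlib.CategoryTheory.Sites.LocallyBijective
import Mathlib.Algebra.Category.Grp.FilteredColimits
import Mathlib.CategoryTheory.Limits.ConcreteCategory.Basic

/-! # Sections of filtered colimits, indexed by large filtered categories -/

universe u

open CategoryTheory CategoryTheory.Limits Opposite

set_option linter.style.haveILetI false

namespace Groth.L28.ColimBig

open Groth.L27.Colim (Tup Fam IsNat IsCov Good Acyc cov_injective cov_glue map_comp surjective_of_acyc acyc_X₃ acyc_of_injective app_injective app_exact app_comp exists_preimage mapFam mapFam_injective d d_mapFam cechExact_of_injective CechExact)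

variable {Λ : Type (u + 1)} [SmallCategory Λ] [IsFiltered Λ]

theorem exists_factor_all {ι : Type u} [Finite ι] {j : Λ} {k : ι → Λ} (h : ∀ i, j ⟶ k i) :
    ∃ (m : Λ) (f : j ⟶ m), ∀ i, ∃ g : k i ⟶ m, h i ≫ g = f := by
  classical
  haveI := Fintype.ofFinite ι
  let O : Finset Λ := insert j (Finset.univ.image k)
  let H : Finset (Σ' (a b : Λ) (_ : a ∈ O) (_ : b ∈ O), a ⟶ b) :=
    Finset.univ.image fun i => ⟨j, k i, Finset.mem_insert_self _ _,
      Finset.mem_insert_of_mem (Finset.mem_image_of_mem k (Finset.mem_univ i)), h i⟩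
  obtain ⟨m, T, hT⟩ := IsFiltered.sup_exists O H
  exact ⟨m, T (Finset.mem_insert_self _ _), fun i =>
    ⟨_, hT _ _ (Finset.mem_image_of_mem _ (Finset.mem_univ i))⟩⟩

theorem exists_common {ι : Type u} [Finite ι] (k : ι → Λ) : ∃ m : Λ, ∀ i, Nonempty (k i ⟶ m) := by
  classical
  haveI := Fintype.ofFinite ι
  obtain ⟨m, hm⟩ := IsFiltered.sup_objs_exists (Finset.univ.image k)
  exact ⟨m, fun i => hm (Finset.mem_image_of_mem k (Finset.mem_univ i))⟩

variable {C : Type (u + 1)} [Category.{u} C] {J : GrothendieckTopology C}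
  [HasSheafify J AddCommGrpCat.{u + 1}] [J.HasSheafCompose (forget AddCommGrpCat.{u + 1})]
  [J.WEqualsLocallyBijective AddCommGrpCat.{u + 1}]
  {S : C → Prop} (hS : Good J S)
  {D : Λ ⥤ Sheaf J AddCommGrpCat.{u + 1}} {c : Cocone D} (hc : IsColimit c)

instance : PreservesColimitsOfShape Λ (forget AddCommGrpCat.{u + 1}) :=
  haveI : PreservesFilteredColimitsOfSize.{u, u} (forget AddCommGrpCat.{u + 1}) :=
    preservesFilteredColimitsOfSize_of_univLE.{u + 1, u + 1} _
  inferInstance

include hc in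
/-- Locally, sections of a colimit come from a stage, and vanish at a stage if they vanish. -/
theorem locally_rep (U : C) :
    (∀ x : c.pt.obj.obj (op U), ∃ R ∈ J U, ∀ (V : C) (g : V ⟶ U), R.arrows g →
      ∃ (j : Λ) (y : (D.obj j).obj.obj (op V)), (c.ι.app j).hom.app (op V) y = c.pt.obj.map g.op x) ∧
    (∀ (j : Λ) (y : (D.obj j).obj.obj (op U)), (c.ι.app j).hom.app (op U) y = 0 →
      ∃ R ∈ J U, ∀ (V : C) (g : V ⟶ U), R.arrows g →
        ∃ (k : Λ) (h : j ⟶ k), (D.map h).hom.app (op V) ((D.obj j).obj.map g.op y) = 0) := by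
  let P := colimit.cocone (D ⋙ sheafToPresheaf J AddCommGrpCat.{u + 1})
  have hP : ∀ V : C, IsColimit (((evaluation Cᵒᵖ AddCommGrpCat.{u + 1}).obj (op V)).mapCocone P) := fun V =>
    isColimitOfPreserves _ (colimit.isColimit _)
  let e := hc.coconePointUniqueUpToIso (Sheaf.isColimitSheafifyCocone P (colimit.isColimit _))
  let θ : CategoryTheory.sheafify J P.pt ⟶ c.pt.obj := e.inv.hom
  haveI : IsIso θ := inferInstanceAs (IsIso ((sheafToPresheaf J _).map e.inv))
  let τ : P.pt ⟶ c.pt.obj := toSheafify J P.pt ≫ θ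
  have hτ : ∀ j, P.ι.app j ≫ τ = (c.ι.app j).hom := fun j => by
    rw [← hc.comp_coconePointUniqueUpToIso_inv (Sheaf.isColimitSheafifyCocone P (colimit.isColimit _)) j]
    exact (Category.assoc _ _ _).symm.trans (congrArg (· ≫ θ) (Sheaf.sheafifyCocone_ι_app_val P j).symm)
  haveI : Presheaf.IsLocallyInjective J θ := Presheaf.isLocallyInjective_of_injective J θ fun V =>
    (AddCommGrpCat.mono_iff_injective (θ.app V)).1 inferInstance
  haveI : Presheaf.IsLocallySurjective J θ := Presheaf.isLocallySurjective_of_surjective J θ fun V =>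
    (AddCommGrpCat.epi_iff_surjective (θ.app V)).1 inferInstance
  haveI : Presheaf.IsLocallyInjective J τ := Presheaf.isLocallyInjective_comp J _ _
  haveI : Presheaf.IsLocallySurjective J τ := Presheaf.isLocallySurjective_comp J _ _
  have hτ' : ∀ (j : Λ) (V : C) (y : (D.obj j).obj.obj (op V)),
      τ.app (op V) ((P.ι.app j).app (op V) y) = (c.ι.app j).hom.app (op V) y := fun j V y =>
    congr($(hτ j).app (op V) y)
  constructor
  · refine fun x => ⟨_, Presheaf.imageSieve_mem J τ x, fun V g ⟨z, hz⟩ => ?_⟩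
    obtain ⟨j, y, hy⟩ := Concrete.isColimit_exists_rep _ (hP V) z
    exact ⟨j, y, (hτ' j V y).symm.trans ((congrArg (τ.app (op V)) hy).trans hz)⟩
  · intro j y hy
    refine ⟨_, Presheaf.equalizerSieve_mem J τ ((P.ι.app j).app (op U) y) 0
      ((hτ' j U y).trans (hy.trans (map_zero (τ.app (op U)).hom).symm)), fun V g hg => ?_⟩
    have h0 : (P.ι.app j).app (op V) ((D.obj j).obj.map g.op y) =
        (P.ι.app j).app (op V) (0 : (D.obj j).obj.obj (op V)) :=
      (NatTrans.naturality_apply (P.ι.app j) g.op y).trans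
        (hg.trans ((map_zero (P.pt.map g.op).hom).trans (map_zero ((P.ι.app j).app (op V)).hom).symm))
    obtain ⟨k, f, f', hk⟩ := (Concrete.isColimit_rep_eq_iff_exists _ (hP V) _ _).1 h0
    exact ⟨k, f, hk.trans (map_zero ((D.map f').hom.app (op V)).hom)⟩

theorem ι_map {j k : Λ} (h : j ⟶ k) {V : C} (y : (D.obj j).obj.obj (op V)) :
    (c.ι.app k).hom.app (op V) ((D.map h).hom.app (op V) y) = (c.ι.app j).hom.app (op V) y :=
  congr($(c.w h).hom.app (op V) y)

theorem ι_nat (j : Λ) {U V : C} (g : V ⟶ U) (y : (D.obj j).obj.obj (op U)) :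
    (c.ι.app j).hom.app (op V) ((D.obj j).obj.map g.op y) = c.pt.obj.map g.op ((c.ι.app j).hom.app (op U) y) :=
  NatTrans.naturality_apply (c.ι.app j).hom g.op y

theorem map_map {i j k : Λ} (f : i ⟶ j) (g : j ⟶ k) {V : C} (y : (D.obj i).obj.obj (op V)) :
    (D.map g).hom.app (op V) ((D.map f).hom.app (op V) y) = (D.map (f ≫ g)).hom.app (op V) y :=
  congr($(D.map_comp f g).hom.app (op V) y).symm

include hS hc in
theorem exists_map_eq_zero {K : C} (hK : S K) (j : Λ) (y : (D.obj j).obj.obj (op K))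
    (hy : (c.ι.app j).hom.app (op K) y = 0) :
    ∃ (k : Λ) (h : j ⟶ k), (D.map h).hom.app (op K) y = 0 := by
  obtain ⟨R, hR, hR'⟩ := (locally_rep hc K).2 j y hy
  obtain ⟨L, p, -, hp, ι, _, Y, q, -, hq, hbij⟩ := hS.refine_cover K hK R hR
  choose k h hk using fun i => hR' _ _ (hq i)
  obtain ⟨m, f, hf⟩ := exists_factor_all h
  refine ⟨m, f, cov_injective (D.obj m) hp ((hbij (D.obj m)).1 (funext fun i => ?_))⟩
  obtain ⟨g, hg⟩ := hf i
  show (D.obj m).obj.map (q i).op _ = (D.obj m).obj.map (q i).op _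
  rw [map_zero, map_zero, map_comp, ← NatTrans.naturality_apply (D.map f).hom, ← hg, ← map_map, hk i, map_zero]

include hS hc in
theorem exists_rep {K : C} (hK : S K) (x : c.pt.obj.obj (op K)) :
    ∃ (j : Λ) (y : (D.obj j).obj.obj (op K)), (c.ι.app j).hom.app (op K) y = x := by
  obtain ⟨R, hR, hR'⟩ := (locally_rep hc K).1 x
  obtain ⟨L, p, hL, hp, ι, _, Y, q, -, hq, hbij⟩ := hS.refine_cover K hK R hR
  choose k y hy using fun i => hR' _ _ (hq i)
  obtain ⟨m, hm⟩ := exists_common k
  obtain ⟨z, hz⟩ := (hbij (D.obj m)).2 fun i => (D.map (hm i).some).hom.app (op (Y i)) (y i)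
  have hzx : (c.ι.app m).hom.app (op L) z = c.pt.obj.map p.op x := (hbij c.pt).1 (funext fun i => by
    show c.pt.obj.map (q i).op _ = c.pt.obj.map (q i).op _
    rw [← ι_nat m (q i) z,
      show (D.obj m).obj.map (q i).op z = _ from congrFun hz i, ι_map, hy i, map_comp])
  obtain ⟨W, t, hW, huniv⟩ := hS.tup p hK hL hp 1
  obtain ⟨n, f, hn⟩ := exists_map_eq_zero hS hc hW m
    ((D.obj m).obj.map (t.1 0).op z - (D.obj m).obj.map (t.1 1).op z) (by
      rw [map_sub, ι_nat m, ι_nat m, hzx, map_comp c.pt, map_comp c.pt, t.2 0 1, sub_self])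
  obtain ⟨x', hx'⟩ := cov_glue (D.obj n) hp ((D.map f).hom.app (op L) z) (fun V t' => by
    obtain ⟨g, hg, -⟩ := huniv V t'
    rw [← hg]
    show (D.obj n).obj.map (g ≫ t.1 0).op _ = (D.obj n).obj.map (g ≫ t.1 1).op _
    rw [← map_comp (D.obj n) g (t.1 0), ← map_comp (D.obj n) g (t.1 1)]
    refine congrArg _ ?_
    rw [map_sub, sub_eq_zero] at hn
    rw [← NatTrans.naturality_apply (D.map f).hom, ← NatTrans.naturality_apply (D.map f).hom]
    exact hn)
  refine ⟨n, x', cov_injective c.pt hp ?_⟩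
  rw [← ι_nat n p x', hx', ι_map, hzx]

include hS hc in
theorem acyc_colimit (h : ∀ j, Acyc S (D.obj j)) : Acyc S c.pt := by
  intro K L p hK hL hp n x hx hdx
  obtain ⟨W, t, hW, huniv⟩ := hS.tup p hK hL hp (n + 1)
  obtain ⟨W', t', hW', huniv'⟩ := hS.tup p hK hL hp (n + 1 + 1)
  obtain ⟨j, β, hβ⟩ := exists_rep hS hc hW (x W t)
  choose g hg hguniq using fun V s => huniv V s
  let b : Fam p (D.obj j).obj (n + 1) := fun V s => (D.obj j).obj.map (g V s).op β
  have hb : IsNat b := fun {V V'} i s => by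
    show (D.obj j).obj.map (g V' (s.res i)).op β = (D.obj j).obj.map i.op ((D.obj j).obj.map (g V s).op β)
    rw [map_comp, ← hguniq V' (s.res i) (i ≫ g V s) (by
      show t.res (i ≫ g V s) = s.res i
      rw [← Tup.res_res, hg V s])]
  have hbx : mapFam (c.ι.app j).hom b = x := by
    funext V s
    show (c.ι.app j).hom.app (op V) ((D.obj j).obj.map (g V s).op β) = x V s
    rw [ι_nat j (g V s) β, hβ, ← hx, hg V s]
  obtain ⟨k, f, hk⟩ := exists_map_eq_zero hS hc hW' j (d b W' t')
    (congrFun (congrFun ((d_mapFam (c.ι.app j).hom b).symm.trans ((congrArg d hbx).trans hdx)) W') t')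
  obtain ⟨y, hy, hdy⟩ := h k K L p hK hL hp n (mapFam (D.map f).hom b) (hb.map _) (by
    rw [d_mapFam]
    funext V s
    obtain ⟨g', hg', -⟩ := huniv' V s
    show (D.map f).hom.app (op V) (d b V s) = 0
    rw [← hg', hb.d g' t', NatTrans.naturality_apply (D.map f).hom g'.op, hk, map_zero])
  refine ⟨mapFam (c.ι.app k).hom y, hy.map _, ?_⟩
  rw [d_mapFam, hdy, ← hbx]
  funext V s
  exact ι_map f _

end Groth.L28.ColimBig
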